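import Cfsg.Agent.Lib.V4Block.Char
import Cfsg.Agent.Lib.ZStar.EC.Count
import Cfsg.Prelude.Def_BlockRank

/-!
# The number of characters and the rank of the principal block
-/

set_option autoImplicit false
set_option linter.unusedSectionVars false
set_option linter.style.haveILetI false

namespace Cfsg.Agent.Lib.V4Block

open Cfsg Subgroup Finset
open Cfsg.Agent.Lib.Blocks.Third Cfsg.Agent.Lib.ZStar.Section
open scoped ComplexConjugate Pointwise

universe u

variable {G : Type u} [Group G] [Fintype G] [Fintype (IrrCharacter G)]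
variable {M : Ideal AlgInt}

/-- The index type of the principal block. -/
abbrev Idx (M : Ideal AlgInt) (G : Type u) [Group G] : Type u :=
  {χ : IrrCharacter G // χ ∈ principalBlock M G}

/-- The section sum as a sum over the block. -/
theorem secSum_eq_sum_block [Fintype (Idx M G)] (y g : G) :
    secSum M y g = ∑ i : Idx M G,
      (i.1 : G → ℂ) g * conj ((i.1 : G → ℂ) y) := by
  classical
  unfold secSum
  rw [← Finset.sum_filter]
  exact Finset.sum_subtype _ (by simp) _

theorem Ctx.odd_index (hG : Ctx G) {J : G} (hJ : orderOf J = 2) :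
    ¬ 2 ∣ (centralizer ({J} : Set G)).index := by
  obtain ⟨Q, hJQ⟩ := exists_sylow_mem hJ
  haveI : Fact (Nat.Prime 2) := ⟨Nat.prime_two⟩
  intro h
  exact Q.not_dvd_index (h.trans (Subgroup.index_dvd_of_le (hG.sylow_le_centralizer Q hJQ)))

/-- Characters of the principal block do not vanish on `J`. -/
theorem Ctx.value_ne_zero (hG : Ctx G) (hM : IsPModular 2 M) {J : G} (hJ : orderOf J = 2)
    {χ : IrrCharacter G} (hχ : χ ∈ principalBlock M G) : (χ : G → ℂ) J ≠ 0 := by
  intro h0
  have h1 : MemLocalIdeal M (centralChar (fun _ : G => (1 : ℂ)) J - centralChar (χ : G → ℂ) J) :=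
    hχ J
  obtain ⟨a, b, ha, hb, hab⟩ := h1
  have hb0 : (b : ℂ) ≠ 0 := by
    intro h
    have : b = 0 := Subtype.ext h
    exact hb (this ▸ M.zero_mem)
  set n := (centralizer ({J} : Set G)).index with hn
  have hab' : (a : ℂ) = (n : ℂ) * (b : ℂ) := by
    rw [div_eq_iff hb0] at hab
    rw [hab]
    simp [centralChar, h0, ← hn]
  have hab2 : a = (n : AlgInt) * b := by
    apply Subtype.ext
    rw [hab']
    simp
  obtain ⟨k, hk⟩ := Nat.odd_iff.mpr (Nat.odd_iff.mp (Nat.not_even_iff_odd.mp
    (fun h => hG.odd_index hJ h.two_dvd)))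
  apply hb
  have hb2 : b = a - (2 : AlgInt) * ((k : AlgInt) * b) := by
    have hk' : n = 2 * k + 1 := hk
    rw [hab2, hk']
    push_cast
    ring
  rw [hb2]
  refine M.sub_mem ha (M.mul_mem_right _ ?_)
  have := hM.2.2
  simpa using this

/-- The principal block has exactly four characters. -/
theorem Ctx.card_block (hG : Ctx G) (hM : IsPModular 2 M) {J : G} (hJ : orderOf J = 2)
    [Fintype (Idx M G)] : Fintype.card (Idx M G) = 4 := by
  classical
  haveI := hM.2.1.isPrime
  choose n hn using fun i : Idx M G => Cfsg.Agent.Lib.ZStar.EC.exists_int_value i.1 hJ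
  have hn0 : ∀ i, n i ≠ 0 := by
    intro i h
    apply hG.value_ne_zero hM hJ i.2
    rw [hn i, h]
    simp
  have hsum : ∑ i : Idx M G, (n i) ^ 2 = 4 := by
    have h1 := hG.secSum_self hM hJ
    rw [secSum_eq_sum_block] at h1
    have h2 : ∑ i : Idx M G, ((n i) ^ 2 : ℂ) = 4 := by
      rw [← h1]
      refine Finset.sum_congr rfl fun i _ => ?_
      rw [hn i]
      simp [sq]
    exact_mod_cast h2
  let i₀ : Idx M G := ⟨oneI G, Cfsg.Agent.Lib.Blocks.Third.principalBlock_eq_blockOf (G := G) M ▸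
    Cfsg.Agent.Lib.Blocks.Central.mem_blockOf_self (oneI G)⟩
  have hi₀ : n i₀ = 1 := by
    have h1 := hn i₀
    have h2 : ((i₀.1 : IrrCharacter G) : G → ℂ) J = 1 := rfl
    rw [h2] at h1
    exact_mod_cast h1.symm
  have hsplit : ∑ i ∈ univ.erase i₀, (n i) ^ 2 = 3 := by
    have h1 : n i₀ ^ 2 + ∑ i ∈ univ.erase i₀, (n i) ^ 2 = ∑ i, (n i) ^ 2 :=
      Finset.add_sum_erase univ (fun i => (n i) ^ 2) (Finset.mem_univ i₀)
    rw [hi₀, hsum] at h1
    omega
  have hone : ∀ i ∈ univ.erase i₀, (n i) ^ 2 = 1 := by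
    intro i hi
    have h1 : (n i) ^ 2 ≤ 3 := by
      rw [← hsplit]
      exact Finset.single_le_sum (f := fun i => (n i) ^ 2) (fun j _ => sq_nonneg _) hi
    have h2 : |n i| < 2 := by
      apply abs_lt_of_sq_lt_sq (by norm_num; omega) (by norm_num)
    have h3 : n i ≠ 0 := hn0 i
    have h4 : n i = 1 ∨ n i = -1 := by
      rw [abs_lt] at h2
      omega
    rcases h4 with h4 | h4 <;> rw [h4] <;> norm_num
  have hcard : (univ.erase i₀).card = 3 := by
    have h1 : ∑ i ∈ univ.erase i₀, (n i) ^ 2 = ∑ i ∈ univ.erase i₀, (1 : ℤ) :=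
      Finset.sum_congr rfl hone
    rw [hsplit] at h1
    simp only [Finset.sum_const, nsmul_eq_mul, mul_one] at h1
    exact_mod_cast h1.symm
  rw [Finset.card_erase_of_mem (Finset.mem_univ i₀), Finset.card_univ] at hcard
  omega

/-- The rank of the principal block is one less than its number of characters. -/
theorem Ctx.blockRank_add_one (hG : Ctx G) (hM : IsPModular 2 M) {J : G} (hJ : orderOf J = 2)
    [Fintype (Idx M G)] :
    blockRank 2 (principalBlock M G) + 1 = Fintype.card (Idx M G) := by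
  classical
  haveI := hM.2.1.isPrime
  let v : Idx M G → (G → ℂ) := fun i => pRegularPart 2 ((i.1 : IrrCharacter G) : G → ℂ)
  have himg : (fun χ : IrrCharacter G => pRegularPart 2 (χ : G → ℂ)) '' principalBlock M G =
      Set.range v := by
    ext f
    constructor
    · rintro ⟨χ, hχ, rfl⟩
      exact ⟨⟨χ, hχ⟩, rfl⟩
    · rintro ⟨i, rfl⟩
      exact ⟨i.1, i.2, rfl⟩
  let L : (Idx M G → ℂ) →ₗ[ℂ] (G → ℂ) := Fintype.linearCombination ℂ v
  have hLr : LinearMap.range L = Submodule.span ℂ (Set.range v) :=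
    Fintype.range_linearCombination ℂ v
  have hL : ∀ (f : Idx M G → ℂ) (g : G), L f g =
      ∑ i, f i * pRegularPart 2 ((i.1 : IrrCharacter G) : G → ℂ) g := by
    intro f g
    simp only [L, Fintype.linearCombination_apply, Finset.sum_apply, Pi.smul_apply, smul_eq_mul, v]
  have hreg : ∀ (χ : G → ℂ) (g : G), ¬ 2 ∣ orderOf g → pRegularPart 2 χ g = χ g := by
    intro χ g hg
    simp only [pRegularPart]
    rw [if_pos (show IsPRegular 2 g from hg)]
  have hsing : ∀ (χ : G → ℂ) (g : G), 2 ∣ orderOf g → pRegularPart 2 χ g = 0 := by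
    intro χ g hg
    simp only [pRegularPart]
    have hg' : ¬ IsPRegular 2 g := not_not.mpr hg
    rw [if_neg hg']
  let f₀ : Idx M G → ℂ := fun i => conj ((i.1 : G → ℂ) J)
  have hF₀ : ∀ g, ∑ i, f₀ i * (i.1 : G → ℂ) g = secSum M J g := by
    intro g
    rw [secSum_eq_sum_block]
    refine Finset.sum_congr rfl fun i _ => ?_
    simp only [f₀]
    ring
  have hf₀ : L f₀ = 0 := by
    funext g
    rw [hL]
    by_cases hg : 2 ∣ orderOf g
    · simp [hsing _ g hg]
    · simp_rw [hreg _ g hg, hF₀]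
      exact secSum_of_odd hM hJ hg
  have hf₀ne : f₀ ≠ 0 := by
    intro h
    let i₀ : Idx M G := ⟨oneI G, Cfsg.Agent.Lib.Blocks.Third.principalBlock_eq_blockOf (G := G) M ▸
      Cfsg.Agent.Lib.Blocks.Central.mem_blockOf_self (oneI G)⟩
    have h1 := congrFun h i₀
    have h2 : f₀ i₀ = 1 := by
      change conj ((((oneI G : IrrCharacter G)) : G → ℂ) J) = 1
      simp
    rw [h2] at h1
    simp at h1
  -- orthogonality
  have horth : ∀ (f : Idx M G → ℂ) (ψ : Idx M G),
      ∑ g : G, (∑ i, f i * (i.1 : G → ℂ) g) * conj ((ψ.1 : G → ℂ) g) = (Nat.card G : ℂ) * f ψ := by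
    intro f ψ
    have hG0 : (Nat.card G : ℂ) ≠ 0 := Nat.cast_ne_zero.mpr Nat.card_pos.ne'
    have h1 : ∀ i : Idx M G, ∑ g : G, (i.1 : G → ℂ) g * conj ((ψ.1 : G → ℂ) g) =
        if i = ψ then (Nat.card G : ℂ) else 0 := by
      intro i
      have h2 := Cfsg.Agent.Lib.Char.Ortho.classInner_irr i.1.2 ψ.1.2
      rw [Cfsg.Agent.Lib.Char.Ortho.classInner_def] at h2
      by_cases h3 : i = ψ
      · rw [if_pos h3]
        rw [if_pos (by rw [h3])] at h2
        field_simp at h2
        exact h2
      · rw [if_neg h3]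
        rw [if_neg (fun h4 => h3 (Subtype.ext (Subtype.ext h4)))] at h2
        exact (mul_eq_zero.mp h2).resolve_left (inv_ne_zero hG0)
    simp_rw [Finset.sum_mul]
    rw [Finset.sum_comm]
    simp_rw [mul_assoc, ← Finset.mul_sum, h1]
    rw [Finset.sum_eq_single ψ]
    · rw [if_pos rfl, mul_comm]
    · intro b _ hb
      rw [if_neg hb, mul_zero]
    · simp
  -- the kernel
  have hker : LinearMap.ker L = Submodule.span ℂ {f₀} := by
    apply le_antisymm
    · intro f hf
      rw [LinearMap.mem_ker] at hf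
      set c : ℂ := ∑ i, f i * (i.1 : G → ℂ) J with hc
      have hF : ∀ g, ∑ i, f i * (i.1 : G → ℂ) g = if 2 ∣ orderOf g then c else 0 := by
        intro g
        split_ifs with hg
        · rw [hc]
          refine Finset.sum_congr rfl fun i _ => ?_
          rw [hG.value_of_even hM hJ i.2 hg]
        · have h1 := congrFun hf g
          rw [hL] at h1
          simp_rw [hreg _ g hg] at h1
          exact h1
      have hF₀' : ∀ g, ∑ i, f₀ i * (i.1 : G → ℂ) g = if 2 ∣ orderOf g then 4 else 0 := by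
        intro g
        rw [hF₀, hG.secSum_eq hM hJ]
      rw [Submodule.mem_span_singleton]
      refine ⟨c / 4, ?_⟩
      funext ψ
      have hG0 : (Nat.card G : ℂ) ≠ 0 := Nat.cast_ne_zero.mpr Nat.card_pos.ne'
      have h1 := horth f ψ
      have h2 := horth f₀ ψ
      simp_rw [hF] at h1
      simp_rw [hF₀'] at h2
      simp only [ite_mul, zero_mul] at h1 h2
      rw [Finset.sum_ite, Finset.sum_const_zero, add_zero, ← Finset.mul_sum] at h1 h2
      apply mul_left_cancel₀ hG0
      simp only [Pi.smul_apply, smul_eq_mul]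
      have h3 : (Nat.card G : ℂ) * (c / 4 * f₀ ψ) = c / 4 * ((Nat.card G : ℂ) * f₀ ψ) := by ring
      rw [h3, ← h2, ← h1]
      ring
    · rw [Submodule.span_singleton_le_iff_mem, LinearMap.mem_ker]
      exact hf₀
  have hrn := LinearMap.finrank_range_add_finrank_ker L
  rw [hLr, hker, finrank_span_singleton hf₀ne, Module.finrank_fintype_fun_eq_card] at hrn
  unfold blockRank
  rw [himg]
  exact hrn

end Cfsg.Agent.Lib.V4Block
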